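import Groth.Agent.ConormalInjLib.Main

/-!
# The conormal map is injective on stalks where the subscheme is smooth
-/

set_option autoImplicit false
set_option linter.style.haveILetI false
set_option maxHeartbeats 1000000
set_option backward.isDefEq.respectTransparency false
universe u
open CategoryTheory CategoryTheory.Limits AlgebraicGeometry TopologicalSpace Opposite TensorProduct
open DevissLib (St)
open ConormalInjLib
open ProjFormLib (ger exists_ger ger_map ger_res)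

noncomputable section

namespace NormalH1Lib

theorem formallySmooth_appLE_of_smooth_on {X Y : Scheme.{u}} (g : X ⟶ Y) (U₀ : X.Opens) [Smooth (U₀.ι ≫ g)]
    {V : Y.Opens} {U : X.Opens} (hV : IsAffineOpen V) (hU : IsAffineOpen U) (hle : U ≤ U₀) (e : U ≤ g ⁻¹ᵁ V) :
    (g.appLE V U e).hom.FormallySmooth := by
  have hr : U ≤ U₀.ι.opensRange := by rw [Scheme.Opens.opensRange_ι]; exact hle
  have hU' : IsAffineOpen (U₀.ι ⁻¹ᵁ U) := hU.preimage_of_isOpenImmersion U₀.ι hr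
  have e' : U₀.ι ⁻¹ᵁ U ≤ (U₀.ι ≫ g) ⁻¹ᵁ V := U₀.ι.preimage_mono e
  have h := HasRingHomProperty.appLE @Smooth (U₀.ι ≫ g) inferInstance ⟨V, hV⟩ ⟨_, hU'⟩ e'
  haveI : IsIso (U₀.ι.app U) := Scheme.Hom.isIso_app _ U hr
  have heq : (U₀.ι ≫ g).appLE V (U₀.ι ⁻¹ᵁ U) e' = g.appLE V U e ≫ U₀.ι.app U := by
    rw [Scheme.Hom.app_eq_appLE, Scheme.Hom.appLE_comp_appLE]
  change ((U₀.ι ≫ g).appLE V (U₀.ι ⁻¹ᵁ U) e').hom.Smooth at h
  rw [heq] at h
  have h2 := h.formallySmooth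
  exact (RingHom.FormallySmooth.respectsIso.cancel_right_isIso _ _).1 h2

theorem injective_stalk {X' X Y : Scheme.{u}} (j : X' ⟶ X) [IsImmersion j] [QuasiCompact j] (f : X ⟶ Y)
    (U₀ : X'.Opens) [Smooth (U₀.ι ≫ j ≫ f)]
    {Ω : X.Modules} {d : OmegaSh.Der f Ω} (hd : OmegaSh.IsUniversal d)
    {φ : Omega.conormal j ⟶ (Scheme.Modules.pullback j).obj Ω} (hφ : OmegaSh.IsConormalDiff j d φ)
    {z : X'} (hz : z ∈ U₀) : Function.Injective ((St z).map φ).hom := by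
  haveI : Coh.IsQCoh Ω := OmegaAffLib.isQCoh_of_isUniversal hd
  haveI : Coh.IsQCoh (ClSub.idealMod j.ker) := SweepSix.ConormalSpec.isQCoh_idealMod _
  refine (injective_iff_map_eq_zero _).2 fun t ht => ?_
  obtain ⟨Vn, hzn, a, rfl⟩ := exists_ger (Omega.conormal j) z t
  have ht' : ger ((Scheme.Modules.pullback j).obj Ω) z hzn (φ.app Vn a) = 0 := (ger_map φ z hzn a).symm.trans ht
  obtain ⟨V', hzV', iU, iV, heq⟩ := TopCat.Presheaf.germ_eq ((Scheme.Modules.pullback j).obj Ω).presheaf z hzn hzn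
    (φ.app Vn a) 0 (ht'.trans (map_zero (((Scheme.Modules.pullback j).obj Ω).presheaf.germ Vn z hzn).hom).symm)
  rw [map_zero] at heq
  obtain ⟨O, hO, hOeq⟩ := j.isEmbedding.isInducing.isOpen_iff.1 (V' ⊓ U₀).2
  obtain ⟨V, hV, hzV, -⟩ := exists_isAffineOpen_mem_and_subset (show f (j z) ∈ (⊤ : Y.Opens) from trivial)
  have hzO : j z ∈ O := by
    have : z ∈ j ⁻¹' O := by rw [hOeq]; exact ⟨hzV', hz⟩
    exact this
  obtain ⟨W, hW, hzW, hWle, hWc⟩ := exists_chart j z (f ⁻¹ᵁ V ⊓ ⟨O, hO⟩) ⟨hzV, hzO⟩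
  obtain ⟨hU', hsurj⟩ := chart_of_le j hW hWc
  have hWV : W ≤ f ⁻¹ᵁ V := hWle.trans inf_le_left
  have hsub : j ⁻¹ᵁ W ≤ V' ⊓ U₀ := fun y hy => by
    have : y ∈ j ⁻¹' O := (hWle hy).2
    rw [hOeq] at this
    exact this
  have e₂ : j ⁻¹ᵁ W ≤ (j ≫ f) ⁻¹ᵁ V := j.preimage_mono hWV
  suffices hinj : Function.Injective (φ.app (j ⁻¹ᵁ W)).hom by
    have hle : j ⁻¹ᵁ W ≤ Vn := fun y hy => iU.le ((hsub hy).1)
    have h1 : φ.app (j ⁻¹ᵁ W) ((Omega.conormal j).presheaf.map (homOfLE hle).op a) = 0 := by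
      have hn := ConcreteCategory.congr_hom (φ.mapPresheaf.naturality (homOfLE hle).op) a
      simp only [ConcreteCategory.comp_apply] at hn
      refine hn.trans ?_
      rw [show (homOfLE hle).op = iU.op ≫ (homOfLE (hsub.trans inf_le_left)).op from rfl, Functor.map_comp,
        ConcreteCategory.comp_apply]
      exact (congrArg _ heq).trans (map_zero _)
    rw [← ger_res (Omega.conormal j) hle z hzW a]
    have h2 : (Omega.conormal j).presheaf.map (homOfLE hle).op a = 0 := hinj (h1.trans (map_zero _).symm)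
    exact (congrArg (ger (Omega.conormal j) z hzW) h2).trans (map_zero ((Omega.conormal j).presheaf.germ (j ⁻¹ᵁ W) z hzW).hom)
  letI := (f.appLE V W hWV).hom.toAlgebra
  letI := (j.app W).hom.toAlgebra
  letI := ((j ≫ f).appLE V (j ⁻¹ᵁ W) e₂).hom.toAlgebra
  haveI : IsScalarTower Γ(Y, V) Γ(X, W) Γ(X', j ⁻¹ᵁ W) := IsScalarTower.of_algebraMap_eq' (by
    show ((j ≫ f).appLE V (j ⁻¹ᵁ W) e₂).hom = (j.app W).hom.comp (f.appLE V W hWV).hom
    rw [← CommRingCat.hom_comp, Scheme.Hom.app_eq_appLE, Scheme.Hom.appLE_comp_appLE])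
  haveI : Algebra.FormallySmooth Γ(Y, V) Γ(X', j ⁻¹ᵁ W) :=
    formallySmooth_appLE_of_smooth_on (j ≫ f) U₀ hV hU' (hsub.trans inf_le_right) e₂
  obtain ⟨e, he⟩ := OmegaAffLib.exists_equiv_alg hd hV hW hWV rfl
  -- the base change description of the two sides
  have halg : ∀ r, algebraMap Γ(X, W) Γ(X', j ⁻¹ᵁ W) r = (j.appLE W (j ⁻¹ᵁ W) le_rfl).hom r := fun r => by
    rw [← Scheme.Hom.app_eq_appLE]; rfl
  letI : Module Γ(X, W) Γ(KFlatLib.pb j Ω, j ⁻¹ᵁ W) := Module.compHom _ (j.app W).hom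
  haveI : IsScalarTower Γ(X, W) Γ(X', j ⁻¹ᵁ W) Γ(KFlatLib.pb j Ω, j ⁻¹ᵁ W) :=
    IsScalarTower.of_algebraMap_smul fun a t => rfl
  let ψ : Γ(Ω, W) →ₗ[Γ(X, W)] Γ(KFlatLib.pb j Ω, j ⁻¹ᵁ W) :=
    { toFun := KFlatLib.puSecLE j Ω le_rfl
      map_add' := map_add _
      map_smul' := fun r m => (KFlatLib.puSecLE_smul j Ω le_rfl r m).trans (by
        rw [← Scheme.Hom.app_eq_appLE]; rfl) }
  have hψ : IsBaseChange Γ(X', j ⁻¹ᵁ W) ψ :=
    KFlatLib.isBaseChange_puSec j Ω hW hU' le_rfl halg ψ fun _ => rfl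
  let Q := ClSub.idealMod j.ker
  letI : Module Γ(X, W) Γ(KFlatLib.pb j Q, j ⁻¹ᵁ W) := Module.compHom _ (j.app W).hom
  haveI : IsScalarTower Γ(X, W) Γ(X', j ⁻¹ᵁ W) Γ(KFlatLib.pb j Q, j ⁻¹ᵁ W) :=
    IsScalarTower.of_algebraMap_smul fun a t => rfl
  let θ : Γ(Q, W) →ₗ[Γ(X, W)] Γ(KFlatLib.pb j Q, j ⁻¹ᵁ W) :=
    { toFun := KFlatLib.puSecLE j Q le_rfl
      map_add' := map_add _
      map_smul' := fun r m => (KFlatLib.puSecLE_smul j Q le_rfl r m).trans (by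
        rw [← Scheme.Hom.app_eq_appLE]; rfl) }
  have hθ : IsBaseChange Γ(X', j ⁻¹ᵁ W) θ :=
    KFlatLib.isBaseChange_puSec j Q hW hU' le_rfl halg θ fun _ => rfl
  have hself : ∀ (M : X.Modules) (m : Γ(M, W)),
      KFlatLib.puSecLE j M (le_refl (j ⁻¹ᵁ W)) m = OmegaSh.pullSect j M W m := fun M m => by
    rw [KFlatLib.puSecLE_apply, Subsingleton.elim (homOfLE (le_refl (j ⁻¹ᵁ W))).op (𝟙 _),
      CategoryTheory.Functor.map_id]
    rfl
  have hθs : Function.Surjective θ := fun t => by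
    obtain ⟨w, rfl⟩ := hθ.equiv.surjective t
    induction w using TensorProduct.induction_on with
    | zero => exact ⟨0, by simp⟩
    | tmul a m =>
      obtain ⟨b, rfl⟩ := hsurj a
      exact ⟨b • m, by rw [IsBaseChange.equiv_tmul, map_smul, ← algebraMap_smul Γ(X', j ⁻¹ᵁ W) b]; rfl⟩
    | add a b ha hb =>
      obtain ⟨p, hp⟩ := ha
      obtain ⟨q, hq⟩ := hb
      exact ⟨p + q, by rw [map_add, map_add, hp, hq]⟩
  refine (injective_iff_map_eq_zero (φ.app (j ⁻¹ᵁ W)).hom).mpr fun t ht => ?_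
  obtain ⟨s, rfl⟩ := hθs t
  have hφs : φ.app (j ⁻¹ᵁ W) (θ s) = ψ (d.app W (OmegaSh.idealSect j.ker W s)) :=
    ((congrArg (φ.app (j ⁻¹ᵁ W)) (hself Q s)).trans (hφ W s)).trans (hself Ω _).symm
  replace ht := hφs.symm.trans ht
  let x := OmegaSh.idealSect j.ker W s
  have hx : x ∈ RingHom.ker (algebraMap Γ(X, W) Γ(X', j ⁻¹ᵁ W)) := ConormalSecLib.app_idealSect j W s
  have hsq : x ∈ RingHom.ker (algebraMap Γ(X, W) Γ(X', j ⁻¹ᵁ W)) ^ 2 := by
    refine mem_ker_sq_of_tmul_D_eq_zero (R := Γ(Y, V)) hsurj hx ?_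
    apply (TensorProduct.congr (LinearEquiv.refl Γ(X, W) Γ(X', j ⁻¹ᵁ W)) e).injective
    apply hψ.equiv.injective
    rw [map_zero, map_zero, TensorProduct.congr_tmul, IsBaseChange.equiv_tmul, he, LinearEquiv.refl_apply, one_smul]
    exact ht
  -- the sections of the ideal in the square die in the conormal sheaf
  have main : ∀ y ∈ RingHom.ker (algebraMap Γ(X, W) Γ(X', j ⁻¹ᵁ W)) ^ 2, ∃ m : Γ(Q, W),
      OmegaSh.idealSect j.ker W m = y ∧ θ m = 0 := by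
    intro y hy
    rw [pow_two] at hy
    refine Submodule.mul_induction_on hy (fun a ha b hb => ?_) fun a b ⟨m, hm, hm'⟩ ⟨n, hn, hn'⟩ =>
      ⟨m + n, by rw [map_add, hm, hn], by rw [map_add, hm', hn', add_zero]⟩
    refine ⟨a • ConormalSecLib.lift j W b hb, ?_, ?_⟩
    · exact (ConormalSecLib.idealSect_smul j W a _).trans (congrArg (a * ·) (ConormalSecLib.idealSect_lift j W b hb))
    · rw [map_smul, ← algebraMap_smul Γ(X', j ⁻¹ᵁ W) a, RingHom.mem_ker.mp ha, zero_smul]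
  obtain ⟨m, hm, hm'⟩ := main x hsq
  rw [ConormalSecLib.idealSect_injective j W (hm.trans rfl : _ = OmegaSh.idealSect j.ker W s)] at hm'
  exact hm'

end NormalH1Lib

end
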