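import Groth.Agent.NormalH1Lib.Inj
import Groth.Agent.EulerPnLib.Simple
import Groth.Agent.ExtStalkLib.SheafHomStalk
import Groth.Agent.GeomRedFieldLib.Generic
import Groth.Agent.SubtrBlowLib.GenericFlat
import Groth.Agent.ModifPtLib.Curve
import Groth.Agent.ModifPtLib.Free
import Groth.Agent.PicPnLib.Twist
import Groth.Agent.ProjBunLib.Ses
import Groth.Agent.PnCohLib.Split
import Groth.Agent.CurveVBLib.Basic
import Groth.Agent.SurfExtLib.CBIdeal
import Groth.Agent.CurvLib.Euler
import Groth.Agent.CurvLib.SupportVanish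
import Groth.Agent.AVVanishLib.Family
import Groth.Agent.AmpleDevLib.Pull
import Groth.Agent.ConsLib.ModLoci
import Groth.Agent.StratLib.Light
import Groth.Agent.NormalLib.Serre
import Groth.Agent.Unram17Lib.SmoothNormal
import Groth.Agent.HilbGlueLib.NormalCoh

/-!
# `H¹` of the normal sheaf of a reduced curve in projective space
-/

set_option autoImplicit false
set_option maxHeartbeats 1000000
set_option linter.style.haveILetI false
set_option backward.isDefEq.respectTransparency false
universe u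

open CategoryTheory CategoryTheory.Limits AlgebraicGeometry TopologicalSpace Opposite
open DevissLib (St)
open CohCmpLib (homMod stk evS evMod curryMod evS_ger)
open ProjFormLib (ger exists_ger ger_map ger_res)
open scoped TensorProduct

noncomputable section

namespace NormalH1Lib

theorem evS_map₁ {X : Scheme.{u}} {M M' N P : X.Modules} (a : M ⟶ M') (φ : KFlatLib.tens M' N ⟶ P) (y : X)
    (n : stk N y) (m : stk M y) :
    evS (((DCoh.tensorBi (X := X)).map a).app N ≫ φ) y n m =
      evS φ y n (((DerSch.stalkFunctor X y).map a).hom m) := by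
  obtain ⟨V, hy, n, rfl⟩ := exists_ger N y n
  obtain ⟨V', hy', m, rfl⟩ := exists_ger M y m
  have hm : y ∈ V ⊓ V' := ⟨hy, hy'⟩
  rw [← ger_res N (inf_le_left : V ⊓ V' ≤ V) y hm n, ← ger_res M (inf_le_right : V ⊓ V' ≤ V') y hm m,
    ger_map, evS_ger, evS_ger]
  exact congrArg (ger P y hm) (congrArg (φ.app (V ⊓ V')) (KFlatLib.tensorBi_map₁_shTm a N _ _))

theorem perfectField_spec (k : Type u) [Field k] [PerfectField k] : PerfectField (Spec (CommRingCat.of k)).functionField := by
  let K := (Spec (CommRingCat.of k)).functionField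
  letI : Algebra k K := (((Spec (CommRingCat.of k)).presheaf.germ ⊤ (genericPoint (Spec (CommRingCat.of k))) trivial).hom.comp
    (Scheme.ΓSpecIso (CommRingCat.of k)).inv.hom).toAlgebra
  haveI : Algebra.IsAlgebraic k K := ⟨fun t => by
    obtain ⟨U, hp, s, rfl⟩ := TopCat.Presheaf.exists_germ_eq (F := (Spec (CommRingCat.of k)).presheaf) t
    obtain rfl : U = ⊤ := eq_top_iff.mpr fun q _ => (Subsingleton.elim (α := PrimeSpectrum k) _ q) ▸ hp
    convert isAlgebraic_algebraMap (R := k) (A := K) ((Scheme.ΓSpecIso (CommRingCat.of k)).hom s) using 1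
    simp [RingHom.algebraMap_toAlgebra, K]⟩
  exact Algebra.IsAlgebraic.perfectField (K := k)

theorem exists_smooth_nhd_gen {k : Type u} [Field k] [PerfectField k] {X : Scheme.{u}} [IsReduced X]
    (f : X ⟶ Spec (CommRingCat.of k)) [LocallyOfFinitePresentation f] {η : X} (hη : FinPicLib.IsGen η) :
    ∃ W : X.Opens, η ∈ W ∧ Smooth (W.ι ≫ f) := by
  haveI := perfectField_spec k
  refine Unram17Lib.exists_smooth_nhd f ?_
  exact GeomRedFieldLib.mem_smoothLocus_of_regular f η (Subsingleton.elim (α := PrimeSpectrum k) _ _)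
    (NormalLib.isRegularLocalRing_of_isField _ (SubtrBlowLib.isField_stalk hη))

/-- `L^⊕ → Hom(C, O)` built from `C → D` and a perfect pairing `D ⊗ L → O` is surjective at a field stalk
where the maps `C → D` are jointly injective. -/
theorem surjective_desc_curry {X : Scheme.{u}} [IsLocallyNoetherian X] {n : ℕ} {C D L : X.Modules} (hC : Coh.IsCoh C)
    (hL : PicF.IsInvertible L) (ρ : KFlatLib.tens D L ⟶ Coh.structureModule X) [IsIso ρ] (ψ : Fin n → (C ⟶ D))
    {η : X} (hK : IsField (X.presheaf.stalk η)) (hψ : ∀ v, (∀ j, ((St η).map (ψ j)).hom v = 0) → v = 0) :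
    Function.Surjective ((St η).map (biproduct.desc fun j =>
      curryMod (((DCoh.tensorBi (X := X)).map (ψ j)).app L ≫ ρ))).hom := by
  classical
  let O := Coh.structureModule X
  obtain ⟨U, hηU, ⟨eU⟩⟩ := CurvLib.locFree_of_isInvertible hL η
  obtain ⟨eL⟩ := CurveVBLib.nonempty_stalk_pi_on eU hηU
  let eL' : stk L η ≃ₗ[X.presheaf.stalk η] X.presheaf.stalk η :=
    eL.trans (LinearEquiv.funUnique (Fin 1) _ _)
  let l : stk L η := eL'.symm 1
  have hρi : Function.Injective (evS ρ η l) := by
    intro a b h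
    have h2 : a ⊗ₜ[X.presheaf.stalk η] l = b ⊗ₜ[X.presheaf.stalk η] l :=
      (KFlatLib.stalkTensorLin_bijective D L η).1
        ((ConcreteCategory.bijective_of_isIso ((DerSch.stalkFunctor X η).map ρ)).1 h)
    have h3 := congrArg (fun t => TensorProduct.rid _ _ (TensorProduct.congr (LinearEquiv.refl _ (stk D η)) eL' t)) h2
    simp only [TensorProduct.congr_tmul, LinearEquiv.refl_apply, TensorProduct.rid_tmul, l,
      LinearEquiv.apply_symm_apply, one_smul] at h3
    exact h3
  let oneE : X.presheaf.stalk η ≃ₗ[X.presheaf.stalk η] stk O η :=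
    LinearEquiv.ofBijective (LinearMap.toSpanSingleton _ (stk O η) (SurfExtLib.oneAt η))
      ⟨SurfExtLib.smul_oneAt_injective η, fun t => SurfExtLib.exists_smul_oneAt η t⟩
  let f : Fin n → (stk C η →ₗ[X.presheaf.stalk η] X.presheaf.stalk η) := fun j =>
    oneE.symm.toLinearMap ∘ₗ evS (((DCoh.tensorBi (X := X)).map (ψ j)).app L ≫ ρ) η l
  let Φ : stk C η →ₗ[X.presheaf.stalk η] (Fin n → X.presheaf.stalk η) := LinearMap.pi f
  have hΦ : Function.Injective Φ := by
    refine (injective_iff_map_eq_zero _).2 fun v hv => hψ v fun j => ?_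
    have h2 : oneE.symm (evS (((DCoh.tensorBi (X := X)).map (ψ j)).app L ≫ ρ) η l v) = 0 := congrFun hv j
    rw [LinearEquiv.map_eq_zero_iff, evS_map₁] at h2
    exact hρi (h2.trans (map_zero _).symm)
  intro t
  let ft : stk C η →ₗ[X.presheaf.stalk η] X.presheaf.stalk η := oneE.symm.toLinearMap ∘ₗ evS (evMod C O) η t
  obtain ⟨ℓ, hℓ⟩ : ∃ ℓ : (Fin n → X.presheaf.stalk η) →ₗ[X.presheaf.stalk η] X.presheaf.stalk η, ℓ ∘ₗ Φ = ft := by
    letI := hK.toField
    obtain ⟨π, hπ⟩ := LinearMap.exists_leftInverse_of_injective Φ (LinearMap.ker_eq_bot.2 hΦ)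
    exact ⟨ft ∘ₗ π, by rw [LinearMap.comp_assoc, hπ, LinearMap.comp_id]⟩
  refine ⟨∑ j, ℓ (Pi.single j 1) • ((St η).map (biproduct.ι (fun _ : Fin n => L) j)).hom l, ?_⟩
  refine Groth.Agent.ExtStalkLib.evS_injective hC O η (LinearMap.ext fun v => oneE.symm.injective ?_)
  rw [map_sum, map_sum, LinearMap.sum_apply, map_sum]
  have hv : ft v = ∑ j, ℓ (Pi.single j 1) * f j v := by
    rw [← hℓ, LinearMap.comp_apply]
    conv_lhs => rw [pi_eq_sum_univ (Φ v), map_sum]
    refine Finset.sum_congr rfl fun j _ => ?_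
    rw [map_smul, smul_eq_mul, mul_comm]
    congr 1
    exact congrArg ℓ (funext fun m => by rw [Pi.single_apply]; simp [eq_comm])
  refine Eq.trans (Finset.sum_congr rfl fun j _ => ?_) hv.symm
  rw [map_smul, map_smul, LinearMap.smul_apply, map_smul, smul_eq_mul]
  congr 1
  rw [← ModuleCat.comp_apply, ← Functor.map_comp, biproduct.ι_desc]
  exact congrArg (fun u => oneE.symm (u v)) (CohCmpLib.evS_evMod_curry _ η l)

/-- On a curve, the target of a generically surjective map from copies of a module without `H¹` has no `H¹`. -/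
theorem subsingleton_H1_of_desc (k : Type u) [Field k] {X : Scheme.{u}} [X.Over (Spec (CommRingCat.of k))]
    [NoetherianSpace X] (hdim : topologicalKrullDim X ≤ 1) {n : ℕ} {L N : X.Modules}
    (hN : CohB1.IsFT N) (h1 : Subsingleton (Coh.HH X L 1)) (g : (⨁ fun _ : Fin n => L) ⟶ N)
    (hgen : ∀ η : X, FinPicLib.IsGen η → Function.Surjective ((St η).map g).hom) :
    Subsingleton (Coh.HH X N 1) := by
  classical
  let G : X.Modules := ⨁ fun _ : Fin n => L
  let Q := cokernel g
  have hQ : CohB1.IsFT Q := QCohLib.isFT_of_epi (cokernel.π g) hN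
  have hcl : IsClosed (CohB1.support Q) := QCohLib.isClosed_support Q hQ
  have hng : ∀ y ∈ CohB1.support Q, ¬ FinPicLib.IsGen y := fun y hy hg =>
    hy (ModifPtLib.subsingleton_cokernel_stalk g y (hgen y hg))
  have hfin : (CohB1.support Q).Finite := FinPicLib.finite_of_closed hdim hcl hng
  have hQd : topologicalKrullDim (CohB1.support Q) ≤ 0 :=
    AVVanishLib.topologicalKrullDim_le_zero_of_finite hfin fun y hy => ModifPtLib.isClosed_of_not_isGen hdim (hng y hy)
  have hQ1 : Subsingleton (Coh.HH X Q 1) :=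
    CurvLib.subsingleton_HH_of_support Q hcl subset_rfl (d := 0) (by exact_mod_cast hQd) 1 one_pos
  have hG1 : Subsingleton (Coh.HH X G 1) :=
    PnCohLib.subsingleton_HH_biproduct (k := k) (fun _ : Fin n => L) (𝟭 _) 1 fun _ => h1
  let π := cokernel.π g
  let p : G ⟶ kernel π := Abelian.factorThruImage g
  have hp : Epi p := inferInstance
  have hI1 : Subsingleton (Coh.HH X (kernel π) 1) := by
    let S : ShortComplex X.Modules := ShortComplex.mk (kernel.ι p) p (kernel.condition p)
    have hS : S.ShortExact :=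
      { exact := ShortComplex.exact_of_f_is_kernel S (kernelIsKernel p), epi_g := hp }
    refine subsingleton_of_forall_eq 0 fun x => ?_
    haveI : Subsingleton (Coh.HH X S.X₁ (1 + 1)) := CurvLib.subsingleton_HH_of_dim_le _ (d := 1) (by exact_mod_cast hdim) 2 one_lt_two
    have hx : x ∈ LinearMap.range (CurvLib.hMap (k := k) S.g 1) := by
      rw [CurvLib.exact₃ hS 1, LinearMap.mem_ker]
      exact Subsingleton.elim _ _
    obtain ⟨y, rfl⟩ := hx
    rw [hG1.elim y 0, map_zero]
  let S : ShortComplex X.Modules := ShortComplex.mk (kernel.ι π) π (kernel.condition π)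
  have hS : S.ShortExact :=
    { exact := ShortComplex.exact_of_f_is_kernel S (kernelIsKernel π) }
  refine subsingleton_of_forall_eq 0 fun x => ?_
  have hx : x ∈ LinearMap.range (CurvLib.hMap (k := k) S.f 1) := by
    rw [CurvLib.exact₂ hS 1, LinearMap.mem_ker]
    exact hQ1.elim _ _
  obtain ⟨y, rfl⟩ := hx
  rw [hI1.elim y 0, map_zero]

theorem joint_injective (k : Type u) [Field k] (r : ℕ) {X : Scheme.{u}} [IsLocallyNoetherian X] (i : X ⟶ CohB1.ProjSpace r k)
    {C : X.Modules} (φ : C ⟶ (Scheme.Modules.pullback i).obj (Omega.sheaf (CohB1.ProjSpace.toSpec r k)))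
    (η : X) (hφ : Function.Injective ((St η).map φ).hom) (v : (St η).obj C)
    (hv : ∀ j, ((St η).map (φ ≫ (Scheme.Modules.pullback i).map (EulerPnLib.epsC r k j))).hom v = 0) : v = 0 := by
  classical
  refine hφ (Eq.trans ?_ (map_zero _).symm)
  let F := Scheme.Modules.pullback i ⋙ St η
  haveI := (Scheme.Modules.pullbackPushforwardAdjunction i).left_adjoint_additive
  have hses := (ProjBunLib.shortExact_pullback i (EulerPnLib.shortExact_eulerSeq r k)
    (CurvLib.locFree_of_isInvertible (PicPnLib.twist_inv r k 0))).map_of_exact (St η)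
  have hinj : Function.Injective (F.map (EulerPnLib.eps r k)).hom :=
    (ModuleCat.mono_iff_injective _).1 hses.mono_f
  refine hinj (Eq.trans ?_ (map_zero _).symm)
  have hj : ∀ j, (F.map (biproduct.π (fun _ : Fin (r + 1) => Twist.twistProjSpace r k (-1)) j)).hom
      ((F.map (EulerPnLib.eps r k)).hom (((St η).map φ).hom v)) = 0 := fun j => by
    rw [← ModuleCat.comp_apply, ← F.map_comp]
    simp only [EulerPnLib.eps, biproduct.lift_π]
    have h2 := hv j
    rw [Functor.map_comp, ModuleCat.comp_apply] at h2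
    exact h2
  generalize (F.map (EulerPnLib.eps r k)).hom (((St η).map φ).hom v) = w at hj
  have hw : w = (F.map (∑ j, biproduct.π (fun _ : Fin (r + 1) => Twist.twistProjSpace r k (-1)) j ≫
      biproduct.ι (fun _ : Fin (r + 1) => Twist.twistProjSpace r k (-1)) j)).hom w := by
    rw [biproduct.total, CategoryTheory.Functor.map_id]; rfl
  rw [hw, Functor.map_sum, ModuleCat.hom_sum, LinearMap.sum_apply]
  refine Finset.sum_eq_zero fun j _ => ?_
  rw [Functor.map_comp, ModuleCat.comp_apply, hj j, map_zero]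

theorem exists_pairing (k : Type u) [Field k] (r : ℕ) {X : Scheme.{u}} (i : X ⟶ CohB1.ProjSpace r k) :
    ∃ ρ : KFlatLib.tens ((Scheme.Modules.pullback i).obj (Twist.twistProjSpace r k (-1)))
      ((Scheme.Modules.pullback i).obj (Twist.twistProjSpace r k 1)) ⟶ Coh.structureModule X, IsIso ρ := by
  obtain ⟨e0⟩ := PicPnLib.twist_zero r k
  obtain ⟨e1⟩ : Nonempty (KFlatLib.tens (Twist.twistProjSpace r k (-1)) (Twist.twistProjSpace r k 1) ≅
      Twist.twistProjSpace r k 0) := by
    have h := PicPnLib.twist_add r k (-1) 1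
    rw [show (-1 : ℤ) + 1 = 0 by norm_num] at h
    exact h
  haveI := KFlatLib.isIso_pullθ i (Twist.twistProjSpace r k (-1)) (Twist.twistProjSpace r k 1)
  let a := (asIso (KFlatLib.pullθ i (Twist.twistProjSpace r k (-1)) (Twist.twistProjSpace r k 1))).symm
  let b := (Scheme.Modules.pullback i).mapIso e1
  let c := (Scheme.Modules.pullback i).mapIso e0
  let d := KFlatLib.pullUnitIso i
  let e := a ≪≫ b ≪≫ c ≪≫ d
  exact ⟨e.hom, e.isIso_hom⟩

theorem subsingleton_H1 (k : Type u) [Field k] [IsAlgClosed k] (r : ℕ)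
    (I₀ : (CohB1.ProjSpace r k).IdealSheafData) [I₀.subscheme.Over (Spec (CommRingCat.of k))]
    (hX : I₀.subscheme ↘ Spec (CommRingCat.of k) = I₀.subschemeι ≫ (CohB1.ProjSpace r k ↘ Spec (CommRingCat.of k)))
    [IsReduced I₀.subscheme] (hdim : topologicalKrullDim I₀.subscheme ≤ 1)
    (h1 : Subsingleton (Coh.HH I₀.subscheme
      ((Scheme.Modules.pullback I₀.subschemeι).obj (Twist.twistProjSpace r k 1)) 1)) :
    Subsingleton (Coh.HH I₀.subscheme
      (homMod (Omega.conormal I₀.subschemeι) (Coh.structureModule I₀.subscheme)) 1) := by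
  haveI hP : IsProper (CohB1.ProjSpace r k ↘ Spec (CommRingCat.of k)) := StratLib.isProper_toSpec r k
  haveI : IsProper (CohB1.ProjSpace.toSpec r k) := hP
  haveI : IsProper (I₀.subscheme ↘ Spec (CommRingCat.of k)) := by
    rw [hX]
    infer_instance
  haveI := CurvLib.isNoetherian k (X := I₀.subscheme)
  haveI : IsNoetherian (CohB1.ProjSpace r k) := CurvLib.isNoetherian k (X := CohB1.ProjSpace r k)
  haveI : LocallyOfFinitePresentation (I₀.subschemeι ≫ CohB1.ProjSpace.toSpec r k) := inferInstance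
  have hC : Coh.IsCoh (Omega.conormal I₀.subschemeι) := ConsLib.isCoh_pullback _ (SurfExtLib.isCoh_idealMod _)
  have hd : OmegaSh.IsUniversal (OmegaSh.dOmega (CohB1.ProjSpace.toSpec r k)) := OmegaAffLib.isUniversal_dOmega
  obtain ⟨φ, hφ⟩ := ConormalSecLib.exists_conormalDiff I₀.subschemeι (OmegaSh.dOmega (CohB1.ProjSpace.toSpec r k))
  obtain ⟨ρ, hρ⟩ := exists_pairing k r I₀.subschemeι
  refine subsingleton_H1_of_desc k hdim (HomCohLib.isCoh_homMod hC (DevissLib.isCoh_structureModule _)).2 h1
    (biproduct.desc fun j => curryMod (((DCoh.tensorBi (X := I₀.subscheme)).map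
      (φ ≫ (Scheme.Modules.pullback I₀.subschemeι).map (EulerPnLib.epsC r k j))).app _ ≫ ρ)) fun η hη => ?_
  obtain ⟨W, hηW, hW⟩ := exists_smooth_nhd_gen (I₀.subschemeι ≫ CohB1.ProjSpace.toSpec r k) hη
  haveI := hW
  haveI := hρ
  exact surjective_desc_curry hC (AmpleDevLib.isInvertible_pb _ (PicPnLib.twist_inv r k 1)) ρ _
    (SubtrBlowLib.isField_stalk hη)
    (joint_injective k r I₀.subschemeι φ η (injective_stalk I₀.subschemeι (CohB1.ProjSpace.toSpec r k) W hd hφ hηW))

end NormalH1Lib

end
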